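import Mathlib

/-!
# Point derivations on finite-dimensional commutative algebras over an algebraically closed field
(helper9)
-/

set_option autoImplicit false

universe u v

namespace Groth.Agent.H9.CocommDiag

section PD

variable {K : Type u} [Field K] [IsAlgClosed K] {L : Type v} [CommRing L] [Algebra K L]
  [Module.Finite K L]

/-- the character attached to a maximal ideal -/
theorem exists_character (m : Ideal L) [hm : m.IsMaximal] :
    ∃ χ : L →ₐ[K] K, RingHom.ker χ = m := by
  let _ : Field (L ⧸ m) := Ideal.Quotient.field m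
  have hfin : Module.Finite K (L ⧸ m) := Module.Finite.of_surjective
    (Ideal.Quotient.mkₐ K m).toLinearMap (Ideal.Quotient.mkₐ_surjective K m)
  have hint : Algebra.IsIntegral K (L ⧸ m) := Algebra.IsIntegral.of_finite K (L ⧸ m)
  have hbij : Function.Bijective (algebraMap K (L ⧸ m)) :=
    IsAlgClosed.algebraMap_bijective_of_isIntegral
  let e : K ≃ₐ[K] (L ⧸ m) := AlgEquiv.ofBijective (Algebra.ofId K (L ⧸ m)) hbij
  refine ⟨(e.symm : (L ⧸ m) →ₐ[K] K).comp (Ideal.Quotient.mkₐ K m), ?_⟩
  ext x
  rw [RingHom.mem_ker]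
  show e.symm (Ideal.Quotient.mk m x) = 0 ↔ x ∈ m
  rw [EmbeddingLike.map_eq_zero_iff, Ideal.Quotient.eq_zero_iff_mem]

/-- a reduced finite-dimensional algebra has enough characters -/
theorem eq_zero_of_forall_character [IsReduced L] (a : L)
    (h : ∀ χ : L →ₐ[K] K, χ a = 0) : a = 0 := by
  have hart : IsArtinianRing L := IsArtinianRing.of_finite K L
  have hmem : a ∈ Ideal.jacobson (⊥ : Ideal L) := by
    rw [Ideal.jacobson, Ideal.mem_sInf]
    rintro m ⟨-, hm⟩
    obtain ⟨χ, hχ⟩ := exists_character (K := K) m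
    rw [← hχ, RingHom.mem_ker]
    exact h χ
  obtain ⟨n, hn⟩ := IsArtinianRing.isNilpotent_jacobson_bot (R := L)
  have h1 : a ^ n ∈ (Ideal.jacobson (⊥ : Ideal L)) ^ n := Ideal.pow_mem_pow hmem n
  rw [hn] at h1
  have h2 : a ^ n = 0 := h1
  exact IsReduced.eq_zero a ⟨n, h2⟩

/-- a non-reduced finite-dimensional algebra has a maximal ideal `m` with `m ^ 2 ≠ m` -/
theorem exists_maximal_sq_ne {L : Type v} [CommRing L] [IsNoetherianRing L] (hL : ¬ IsReduced L) :
    ∃ m : Ideal L, m.IsMaximal ∧ m * m ≠ m := by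
  by_contra hcon
  rw [not_exists] at hcon
  apply hL
  constructor
  intro x hx
  by_contra hx0
  have hann : (Ideal.span {x}).annihilator ≠ ⊤ := by
    intro h
    have : (1 : L) ∈ (Ideal.span {x}).annihilator := by rw [h]; trivial
    rw [Submodule.mem_annihilator] at this
    have h2 := this x (Ideal.subset_span rfl)
    rw [one_smul] at h2
    exact hx0 h2
  obtain ⟨m, hm, hle⟩ := Ideal.exists_le_maximal _ hann
  have hmm : m * m = m := by
    by_contra h
    exact hcon m ⟨hm, h⟩
  obtain ⟨e, he, hme⟩ := (Ideal.isIdempotentElem_iff_of_fg m (IsNoetherian.noetherian m)).mp hmm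
  have hxm : x ∈ m := by
    obtain ⟨n, hn⟩ := hx
    have : x ^ n ∈ m := by rw [hn]; exact zero_mem _
    exact hm.isPrime.mem_of_pow_mem n this
  rw [hme, Ideal.mem_span_singleton'] at hxm
  obtain ⟨y, hy⟩ := hxm
  have h1 : (1 - e) ∈ (Ideal.span {x}).annihilator := by
    rw [Submodule.mem_annihilator]
    intro z hz
    rw [Ideal.mem_span_singleton'] at hz
    obtain ⟨w, rfl⟩ := hz
    rw [smul_eq_mul, ← hy]
    have : (1 - e) * (w * (y * e)) = w * y * (e - e * e) := by ring
    rw [this, he.eq, sub_self, mul_zero]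
  have h2 : (1 - e) ∈ m := hle h1
  have h3 : e ∈ m := by rw [hme]; exact Ideal.subset_span rfl
  have h4 : (1 : L) ∈ m := by
    have := m.add_mem h2 h3
    rwa [sub_add_cancel] at this
  exact hm.ne_top ((Ideal.eq_top_iff_one m).mpr h4)

/-- a non-reduced finite-dimensional algebra over an algebraically closed field has a nonzero
point derivation -/
theorem exists_point_derivation (hL : ¬ IsReduced L) :
    ∃ (χ : L →ₐ[K] K) (d : L →ₗ[K] K), d ≠ 0 ∧ ∀ a b, d (a * b) = χ a * d b + d a * χ b := by
  have hnoeth : IsNoetherianRing L := IsNoetherianRing.of_finite K L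
  obtain ⟨m, hm, hne⟩ := exists_maximal_sq_ne hL
  obtain ⟨χ, hχ⟩ := exists_character (K := K) m
  have hlt : m * m < m := lt_of_le_of_ne Ideal.mul_le_left hne
  obtain ⟨y, hym, hy⟩ := SetLike.exists_of_lt hlt
  let U : Submodule K L := Submodule.span K {(1 : L)} ⊔ (m * m).restrictScalars K
  have hyU : y ∉ U := by
    intro h
    obtain ⟨u, hu, z, hz, huz⟩ := Submodule.mem_sup.mp h
    obtain ⟨c, rfl⟩ := Submodule.mem_span_singleton.mp hu
    have hz' : z ∈ m * m := hz
    have hzm : z ∈ m := Ideal.mul_le_left hz'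
    have h1 : χ (c • (1 : L) + z) = χ y := by rw [huz]
    have hχz : χ z = 0 := by rw [← RingHom.mem_ker, hχ]; exact hzm
    have hχy : χ y = 0 := by rw [← RingHom.mem_ker, hχ]; exact hym
    rw [map_add, map_smul, map_one, hχz, hχy, add_zero, smul_eq_mul, mul_one] at h1
    rw [h1, zero_smul, zero_add] at huz
    rw [← huz] at hy
    exact hy hz'
  obtain ⟨d, hdy, hdU⟩ := Submodule.exists_le_ker_of_notMem hyU
  refine ⟨χ, d, ?_, ?_⟩
  · intro h
    rw [h] at hdy
    exact hdy rfl
  · have hd1 : d 1 = 0 := by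
      have : (1 : L) ∈ U := Submodule.mem_sup_left (Submodule.subset_span rfl)
      exact hdU this
    have hdmm : ∀ z ∈ m * m, d z = 0 := by
      intro z hz
      have : z ∈ U := Submodule.mem_sup_right hz
      exact hdU this
    intro a b
    set a' := a - χ a • (1 : L) with ha'
    set b' := b - χ b • (1 : L) with hb'
    have ham : a' ∈ m := by
      rw [← hχ, RingHom.mem_ker, ha', map_sub, map_smul, map_one, smul_eq_mul, mul_one, sub_self]
    have hbm : b' ∈ m := by
      rw [← hχ, RingHom.mem_ker, hb', map_sub, map_smul, map_one, smul_eq_mul, mul_one, sub_self]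
    have hda : d a' = d a := by
      rw [ha', map_sub, map_smul, hd1, smul_zero, sub_zero]
    have hdb : d b' = d b := by
      rw [hb', map_sub, map_smul, hd1, smul_zero, sub_zero]
    have hab : a * b = a' * b' + χ a • b' + χ b • a' + (χ a * χ b) • (1 : L) := by
      rw [ha', hb']
      simp only [Algebra.smul_def, mul_one, map_mul]
      ring
    rw [hab, map_add, map_add, map_add, map_smul, map_smul, map_smul, hd1,
      hdmm _ (Ideal.mul_mem_mul ham hbm), hda, hdb, smul_eq_mul, smul_eq_mul, smul_zero]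
    ring

end PD

end Groth.Agent.H9.CocommDiag
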