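import Mathlib
import Groth.Agent.Lib.Helper9.Comod
import Groth.Agent.Lib.Helper9.ComodCoeff
import Groth.Agent.Lib.Helper9.ComodCosemi
import Groth.Agent.Lib.Helper9.CocommDiag.PointDer

/-!
# Cocommutative Hopf algebras without primitives over an algebraically closed field are
diagonalizable (helper9)
-/

set_option autoImplicit false

universe u v

open TensorProduct WithConv

namespace Groth.Agent.H9.CocommDiag

open Groth.Agent.H9 Groth.Agent.H9.Comod

section Sep

variable {K : Type u} [Field K] {H : Type v} [AddCommGroup H] [Module K H]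

/-- pairs of functionals separate the points of `H ⊗ H` -/
lemma eq_zero_of_pair_eq_zero (z : H ⊗[K] H) (h : ∀ φ ψ : H →ₗ[K] K, Comod.pair φ ψ z = 0) :
    z = 0 := by
  apply Comod.eq_zero_of_slice_eq_zero
  intro ψ
  rw [← Module.forall_dual_apply_eq_zero_iff K]
  intro φ
  rw [← h φ ψ]
  clear h
  induction z using TensorProduct.induction_on with
  | zero => simp
  | tmul a b => simp [mul_comm]
  | add x y hx hy => simp only [map_add, hx, hy]

end Sep

section FundCoalg

variable {K : Type u} [Field K] {H : Type v} [AddCommGroup H] [Module K H] [Coalgebra K H]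

/-- fundamental theorem of coalgebras -/
theorem exists_fg_subcoalg_mem (a : H) :
    ∃ C : Submodule K H, C.FG ∧ IsSubcoalg K C ∧ a ∈ C := by
  obtain ⟨W, hfin, hv, hW⟩ := Comod.exists_finite_subcomod_mem (k := K) (A := H) (V := H) a
  let _ := ComodSub.Comod.restr (inferInstance : HopfRep.Comod K H H) W hW
  exact ⟨coeffSpace K H W, fg_coeffSpace, isSubcoalg_coeffSpace, le_coeffSpace_restr hW hv⟩

end FundCoalg

section Perp

variable {K : Type u} [Field K] {H : Type v} [CommRing H] [Bialgebra K H] [Coalgebra.IsCocomm K H]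

omit [Coalgebra.IsCocomm K H] in
lemma convMul_apply_pair (φ ψ : WithConv (H →ₗ[K] K)) (a : H) :
    (φ * ψ).ofConv a = Comod.pair φ.ofConv ψ.ofConv (CoalgebraStruct.comul (R := K) a) := by
  show (φ * ψ) a = _
  rw [LinearMap.convMul_apply]
  generalize CoalgebraStruct.comul (R := K) a = z
  induction z using TensorProduct.induction_on with
  | zero => simp
  | tmul a b => simp
  | add x y hx hy => simp only [map_add, hx, hy]

/-- the ideal of functionals vanishing on a subcoalgebra -/
def perp (C : Submodule K H) (hC : IsSubcoalg K C) : Ideal (WithConv (H →ₗ[K] K)) where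
  carrier := {φ | ∀ c ∈ C, φ.ofConv c = 0}
  add_mem' := by
    intro φ ψ hφ hψ c hc
    show φ.ofConv c + ψ.ofConv c = 0
    rw [hφ c hc, hψ c hc, add_zero]
  zero_mem' := by
    intro c _
    rfl
  smul_mem' := by
    intro ψ φ hφ c hc
    rw [smul_eq_mul, convMul_apply_pair]
    obtain ⟨z, hz⟩ := hC c hc
    rw [← hz]
    clear hz
    induction z using TensorProduct.induction_on with
    | zero => simp
    | tmul a b =>
      rw [TensorProduct.map_tmul, Comod.pair_tmul]
      show _ * φ.ofConv (b : H) = 0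
      rw [hφ b b.2, mul_zero]
    | add x y hx hy => simp only [map_add, hx, hy, add_zero]

omit [Coalgebra.IsCocomm K H] in
lemma mem_perp {C : Submodule K H} {hC : IsSubcoalg K C} {φ : WithConv (H →ₗ[K] K)} :
    φ ∈ perp C hC ↔ ∀ c ∈ C, φ.ofConv c = 0 := Iff.rfl

omit [Coalgebra.IsCocomm K H] in
/-- dual bases relative to a finite-dimensional subspace -/
lemma exists_dual_system (C : Submodule K H) (hfg : C.FG) :
    ∃ (n : ℕ) (c : Fin n → H) (φ : Fin n → WithConv (H →ₗ[K] K)), (∀ j, c j ∈ C) ∧
      ∀ (ψ : WithConv (H →ₗ[K] K)) (x : H), x ∈ C →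
        ψ.ofConv x = ∑ j, ψ.ofConv (c j) * (φ j).ofConv x := by
  have hfin : Module.Finite K C := Module.Finite.iff_fg.mpr hfg
  let b := Module.finBasis K C
  have hext : ∀ j, ∃ f : H →ₗ[K] K, f ∘ₗ C.subtype = b.coord j := fun j =>
    LinearMap.exists_extend (b.coord j)
  choose f hf using hext
  refine ⟨Module.finrank K C, fun j => (b j : H), fun j => toConv (f j), fun j => (b j).2, ?_⟩
  intro ψ x hx
  have h1 : (⟨x, hx⟩ : C) = ∑ j, b.repr ⟨x, hx⟩ j • b j := (b.sum_repr ⟨x, hx⟩).symm
  have h2 : x = ∑ j, b.repr ⟨x, hx⟩ j • (b j : H) := by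
    have := congrArg (C.subtype) h1
    rw [map_sum] at this
    simpa using this
  have h3 : ∀ j, (f j) x = b.repr ⟨x, hx⟩ j := by
    intro j
    have := LinearMap.congr_fun (hf j) ⟨x, hx⟩
    simpa using this
  conv_lhs => rw [h2]
  rw [map_sum]
  refine Finset.sum_congr rfl fun j _ => ?_
  rw [map_smul, smul_eq_mul, ofConv_toConv, h3, mul_comm]

variable (C : Submodule K H) (hC : IsSubcoalg K C)

/-- the quotient of the dual algebra by `perp C` is finite-dimensional -/
theorem finite_quot (hfg : C.FG) : Module.Finite K (WithConv (H →ₗ[K] K) ⧸ perp C hC) := by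
  obtain ⟨n, c, φ, hc, hsys⟩ := exists_dual_system C hfg
  classical
  rw [Module.finite_def]
  refine ⟨Finset.univ.image fun j => Ideal.Quotient.mk (perp C hC) (φ j), ?_⟩
  rw [eq_top_iff]
  rintro l -
  obtain ⟨ψ, rfl⟩ := Ideal.Quotient.mk_surjective l
  have h1 : Ideal.Quotient.mk (perp C hC) ψ =
      ∑ j, ψ.ofConv (c j) • Ideal.Quotient.mk (perp C hC) (φ j) := by
    have h2 : ∑ j, ψ.ofConv (c j) • Ideal.Quotient.mk (perp C hC) (φ j) =
        Ideal.Quotient.mk (perp C hC) (∑ j, ψ.ofConv (c j) • φ j) := by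
      rw [map_sum]
      refine Finset.sum_congr rfl fun j _ => ?_
      rfl
    rw [h2, Ideal.Quotient.eq, mem_perp]
    intro x hx
    rw [ofConv_sub, LinearMap.sub_apply, hsys ψ x hx, ofConv_sum, LinearMap.sum_apply, sub_eq_zero]
    refine Finset.sum_congr rfl fun j _ => ?_
    rw [ofConv_smul, LinearMap.smul_apply, smul_eq_mul]
  rw [h1]
  apply Submodule.sum_mem
  intro j _
  apply Submodule.smul_mem
  apply Submodule.subset_span
  rw [Finset.coe_image]
  exact ⟨j, Finset.mem_coe.mpr (Finset.mem_univ j), rfl⟩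

/-- functionals on the quotient are evaluations at elements of `C` -/
theorem exists_repr (hfg : C.FG) (lam : (WithConv (H →ₗ[K] K) ⧸ perp C hC) →ₗ[K] K) :
    ∃ x ∈ C, ∀ ψ : WithConv (H →ₗ[K] K), lam (Ideal.Quotient.mk (perp C hC) ψ) = ψ.ofConv x := by
  obtain ⟨n, c, φ, hc, hsys⟩ := exists_dual_system C hfg
  refine ⟨∑ j, lam (Ideal.Quotient.mk (perp C hC) (φ j)) • c j,
    Submodule.sum_mem _ fun j _ => Submodule.smul_mem _ _ (hc j), ?_⟩
  intro ψ
  have h1 : Ideal.Quotient.mk (perp C hC) ψ =
      ∑ j, ψ.ofConv (c j) • Ideal.Quotient.mk (perp C hC) (φ j) := by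
    have h2 : ∑ j, ψ.ofConv (c j) • Ideal.Quotient.mk (perp C hC) (φ j) =
        Ideal.Quotient.mk (perp C hC) (∑ j, ψ.ofConv (c j) • φ j) := by
      rw [map_sum]
      refine Finset.sum_congr rfl fun j _ => ?_
      rfl
    rw [h2, Ideal.Quotient.eq, mem_perp]
    intro x hx
    rw [ofConv_sub, LinearMap.sub_apply, hsys ψ x hx, ofConv_sum, LinearMap.sum_apply, sub_eq_zero]
    refine Finset.sum_congr rfl fun j _ => ?_
    rw [ofConv_smul, LinearMap.smul_apply, smul_eq_mul]
  rw [h1, map_sum, map_sum]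
  refine Finset.sum_congr rfl fun j _ => ?_
  rw [map_smul, map_smul, smul_eq_mul, smul_eq_mul, mul_comm]

end Perp

section AlgClosed

variable {K : Type u} [Field K] [IsAlgClosed K] {H : Type v} [CommRing H] [HopfAlgebra K H]
  [Coalgebra.IsCocomm K H]

variable (C : Submodule K H) (hC : IsSubcoalg K C)

omit [IsAlgClosed K] in
/-- characters of the quotient of the dual algebra are evaluations at group-like elements -/
lemma groupLike_of_character (hfg : C.FG)
    (χ : (WithConv (H →ₗ[K] K) ⧸ perp C hC) →ₐ[K] K) :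
    ∃ g ∈ C, IsGroupLikeElem K g ∧
      ∀ ψ : WithConv (H →ₗ[K] K), χ (Ideal.Quotient.mk (perp C hC) ψ) = ψ.ofConv g := by
  obtain ⟨g, hgC, hg⟩ := exists_repr C hC hfg χ.toLinearMap
  have hg' : ∀ ψ : WithConv (H →ₗ[K] K), χ (Ideal.Quotient.mk (perp C hC) ψ) = ψ.ofConv g := hg
  refine ⟨g, hgC, ⟨?_, ?_⟩, hg'⟩
  · have h1 := hg' 1
    rw [map_one, map_one] at h1
    have h2 : (1 : WithConv (H →ₗ[K] K)).ofConv g = CoalgebraStruct.counit (R := K) g := rfl
    rw [h2] at h1
    exact h1.symm
  · rw [← sub_eq_zero]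
    apply eq_zero_of_pair_eq_zero
    intro φ ψ
    rw [map_sub, Comod.pair_tmul, sub_eq_zero]
    have h1 := convMul_apply_pair (toConv φ) (toConv ψ) g
    rw [ofConv_toConv, ofConv_toConv] at h1
    rw [← h1, ← hg', map_mul, map_mul, hg', hg', ofConv_toConv, ofConv_toConv]

include hC in
/-- either there is a nonzero primitive element or `C` is spanned by group-likes -/
theorem exists_primitive_or_le_span (hfg : C.FG) :
    (∃ y : H, y ≠ 0 ∧
      CoalgebraStruct.comul (R := K) y = y ⊗ₜ[K] (1 : H) + (1 : H) ⊗ₜ[K] y) ∨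
    C ≤ Submodule.span K {a : H | IsGroupLikeElem K a} := by
  have hfin : Module.Finite K (WithConv (H →ₗ[K] K) ⧸ perp C hC) := finite_quot C hC hfg
  by_cases hL : IsReduced (WithConv (H →ₗ[K] K) ⧸ perp C hC)
  · right
    intro c hc
    by_contra hcS
    obtain ⟨f, hfc, hfS⟩ := Submodule.exists_le_ker_of_notMem hcS
    have h1 : Ideal.Quotient.mk (perp C hC) (toConv f) = 0 := by
      refine eq_zero_of_forall_character (K := K) (L := WithConv (H →ₗ[K] K) ⧸ perp C hC) _ ?_
      intro χ
      obtain ⟨g, -, hgl, hg⟩ := groupLike_of_character C hC hfg χ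
      rw [hg, ofConv_toConv]
      exact hfS (Submodule.subset_span hgl)
    rw [Ideal.Quotient.eq_zero_iff_mem, mem_perp] at h1
    exact hfc (h1 c hc)
  · left
    obtain ⟨χ, d, hd0, hd⟩ := exists_point_derivation (K := K)
      (L := WithConv (H →ₗ[K] K) ⧸ perp C hC) hL
    obtain ⟨g, -, hgl, hg⟩ := groupLike_of_character C hC hfg χ
    obtain ⟨x, -, hx⟩ := exists_repr C hC hfg d
    have hx0 : x ≠ 0 := by
      intro h
      apply hd0
      apply LinearMap.ext
      intro l
      obtain ⟨ψ, rfl⟩ := Ideal.Quotient.mk_surjective l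
      rw [hx, h, map_zero, LinearMap.zero_apply]
    have hcx : CoalgebraStruct.comul (R := K) x = g ⊗ₜ[K] x + x ⊗ₜ[K] g := by
      rw [← sub_eq_zero]
      apply eq_zero_of_pair_eq_zero
      intro φ ψ
      rw [map_sub, map_add, Comod.pair_tmul, Comod.pair_tmul, sub_eq_zero]
      have h1 := convMul_apply_pair (toConv φ) (toConv ψ) x
      rw [ofConv_toConv, ofConv_toConv] at h1
      rw [← h1, ← hx, map_mul, hd, hg, hg, hx, hx, ofConv_toConv, ofConv_toConv]
    refine ⟨HopfAlgebra.antipode K g * x, ?_, ?_⟩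
    · intro h
      apply hx0
      have := congrArg (fun z => g * z) h
      simp only [mul_zero] at this
      rw [← mul_assoc, hgl.mul_antipode_cancel, one_mul] at this
      exact this
    · rw [Bialgebra.comul_mul, hcx, hgl.antipode.comul_eq_tmul_self, mul_add,
        Algebra.TensorProduct.tmul_mul_tmul, Algebra.TensorProduct.tmul_mul_tmul,
        hgl.antipode_mul_cancel, add_comm]

/-- a cocommutative commutative Hopf algebra over an algebraically closed field without nonzero
primitive elements is spanned by its group-like elements -/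
theorem isDiagonalizable_of_no_primitive
    (h : ∀ f : H, CoalgebraStruct.comul (R := K) f = f ⊗ₜ[K] (1 : H) + (1 : H) ⊗ₜ[K] f → f = 0) :
    HopfRep.IsDiagonalizable K H := by
  show Submodule.span K {a : H | IsGroupLikeElem K a} = ⊤
  rw [eq_top_iff]
  rintro a -
  obtain ⟨C, hfg, hC, haC⟩ := exists_fg_subcoalg_mem (K := K) a
  rcases exists_primitive_or_le_span C hC hfg with ⟨y, hy0, hy⟩ | hle
  · exact absurd (h y hy) hy0
  · exact hle haC

end AlgClosed

end Groth.Agent.H9.CocommDiag
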