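import Mathlib
import Groth.Agent.Lib.Helper9.CocommDiag.Main
import Groth.Agent.Lib.Helper9.UnipLie.PLie

/-!
# Diagonalizable groups and semisimple action of points (helper9)
-/

set_option autoImplicit false

universe u v w

open TensorProduct WithConv Polynomial

namespace Groth.Agent.H9.CocommDiag

open Groth.Agent.H9 Groth.Agent.H9.Comod Groth.Agent.H9.UnipLie

section Tact

variable {k : Type u} [Field k] {A : Type v} [CommRing A] [Bialgebra k A]
  {V : Type w} [AddCommGroup V] [Module k V] [HopfRep.Comod k A V]

variable (k A V) in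
/-- the action of the dual algebra on a comodule -/
noncomputable def Tact : WithConv (A →ₗ[k] k) →ₐ[k] Module.End k V :=
  AlgHom.ofLinearMap
    { toFun := fun φ => Comod.slice φ.ofConv ∘ₗ Comod.coact (A := A)
      map_add' := by
        intro φ ψ
        apply LinearMap.ext
        intro v
        simp only [LinearMap.comp_apply, LinearMap.add_apply, Comod.slice, ofConv_add,
          LinearMap.lTensor_add, map_add]
      map_smul' := by
        intro c φ
        apply LinearMap.ext
        intro v
        simp only [LinearMap.comp_apply, LinearMap.smul_apply, Comod.slice, ofConv_smul,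
          LinearMap.lTensor_smul, map_smul, RingHom.id_apply] }
    (by
      apply LinearMap.ext
      intro v
      show Comod.slice (1 : WithConv (A →ₗ[k] k)).ofConv (Comod.coact (A := A) v) = v
      have : (1 : WithConv (A →ₗ[k] k)).ofConv = Coalgebra.counit (R := k) (A := A) := by
        apply LinearMap.ext
        intro a
        show algebraMap k k _ = _
        rfl
      rw [this, Comod.slice_counit_coact])
    (by
      intro φ ψ
      apply LinearMap.ext
      intro v
      show Comod.slice (φ * ψ).ofConv (Comod.coact (A := A) v) = _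
      rw [slice_mul_coact]
      rfl)

lemma Tact_apply (φ : WithConv (A →ₗ[k] k)) (v : V) :
    Tact k A V φ v = Comod.slice φ.ofConv (Comod.coact (A := A) v) := rfl

lemma act_eq_Tact (g : A →ₐ[k] k) :
    HopfRep.Comod.act k A V g = Tact k A V (toConv g.toLinearMap) := rfl

/-- evaluation at a group-like element as an algebra map on the dual algebra -/
noncomputable def evG (χ : A) (hχ : IsGroupLikeElem k χ) : WithConv (A →ₗ[k] k) →ₐ[k] k :=
  AlgHom.ofLinearMap
    { toFun := fun φ => φ.ofConv χ
      map_add' := fun _ _ => rfl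
      map_smul' := fun _ _ => rfl }
    (by
      show algebraMap k k (CoalgebraStruct.counit (R := k) χ) = 1
      rw [hχ.counit_eq_one, map_one])
    (by
      intro φ ψ
      show (φ * ψ) χ = φ.ofConv χ * ψ.ofConv χ
      rw [LinearMap.convMul_apply, hχ.comul_eq_tmul_self, TensorProduct.map_tmul,
        LinearMap.mul'_apply])

lemma evG_apply (χ : A) (hχ : IsGroupLikeElem k χ) (φ : WithConv (A →ₗ[k] k)) :
    evG χ hχ φ = φ.ofConv χ := rfl

lemma aeval_apply_groupLike (χ : A) (hχ : IsGroupLikeElem k χ) (φ : WithConv (A →ₗ[k] k))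
    (P : k[X]) : (aeval φ P).ofConv χ = P.eval (φ.ofConv χ) := by
  rw [← evG_apply χ hχ, ← aeval_algHom_apply, evG_apply, ← Polynomial.coe_aeval_eq_eval]

/-- functionals vanishing on the coefficient space act by zero -/
lemma Tact_eq_zero_of_coeffSpace (φ : WithConv (A →ₗ[k] k))
    (h : ∀ c ∈ coeffSpace k A V, φ.ofConv c = 0) : Tact k A V φ = 0 := by
  apply LinearMap.ext
  intro v
  rw [Tact_apply, LinearMap.zero_apply]
  obtain ⟨y, hy⟩ := coact_mem_coeffSpace (k := k) (A := A) v
  rw [← hy, Comod.slice_lTensor]
  have : φ.ofConv ∘ₗ (coeffSpace k A V).subtype = 0 := by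
    apply LinearMap.ext
    intro c
    exact h c c.2
  rw [this]
  clear hy
  induction y using TensorProduct.induction_on with
  | zero => simp
  | tmul v c => simp
  | add x y hx hy => simp only [map_add, hx, hy, add_zero]

/-- points of a diagonalizable group act semisimply -/
theorem isSemisimple_act_of_isDiagonalizable [Module.Finite k V]
    (hM : HopfRep.IsDiagonalizable k A) (g : A →ₐ[k] k) :
    Module.End.IsSemisimple (HopfRep.Comod.act k A V g) := by
  classical
  -- finite set of group-likes spanning the coefficient space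
  obtain ⟨t, ht⟩ := (fg_coeffSpace (k := k) (A := A) (V := V))
  have hfin : ∀ a ∈ t, ∃ T : Finset A, (T : Set A) ⊆ {a : A | IsGroupLikeElem k a} ∧
      a ∈ Submodule.span k (T : Set A) := by
    intro a _
    apply Submodule.mem_span_finite_of_mem_span
    rw [show Submodule.span k {a : A | IsGroupLikeElem k a} = ⊤ from hM]
    trivial
  choose! T hT1 hT2 using hfin
  set s : Finset A := t.biUnion T with hs
  have hsG : ∀ χ ∈ s, IsGroupLikeElem k χ := by
    intro χ hχ
    rw [hs, Finset.mem_biUnion] at hχ
    obtain ⟨a, ha, hχa⟩ := hχ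
    exact hT1 a ha hχa
  have hCs : coeffSpace k A V ≤ Submodule.span k (s : Set A) := by
    rw [← ht, Submodule.span_le]
    intro a ha
    have h1 := hT2 a ha
    refine Submodule.span_mono ?_ h1
    intro χ hχ
    rw [Finset.mem_coe, hs, Finset.mem_biUnion]
    exact ⟨a, ha, hχ⟩
  set S : Finset k := s.image (fun χ => g χ) with hS
  set P : k[X] := ∏ c ∈ S, (X - C c) with hP
  have hsq : Squarefree P := by
    apply Polynomial.Separable.squarefree
    rw [hP]
    apply Polynomial.separable_prod'
    · intro x _ y _ hxy
      exact Polynomial.isCoprime_X_sub_C_of_isUnit_sub (sub_ne_zero.mpr hxy).isUnit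
    · intro x _
      exact Polynomial.separable_X_sub_C
  apply Module.End.isSemisimple_of_squarefree_aeval_eq_zero hsq
  rw [act_eq_Tact, aeval_algHom_apply]
  apply Tact_eq_zero_of_coeffSpace
  intro c hc
  have hc' := hCs hc
  clear hc
  induction hc' using Submodule.span_induction with
  | mem χ hχ =>
    rw [aeval_apply_groupLike χ (hsG χ hχ), hP, Polynomial.eval_prod]
    apply Finset.prod_eq_zero (i := g χ)
    · rw [hS, Finset.mem_image]
      exact ⟨χ, hχ, rfl⟩
    · simp
  | zero => rw [map_zero]
  | add x y _ _ hx hy => rw [map_add, hx, hy, add_zero]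
  | smul c x _ hx => rw [map_smul, hx, smul_zero]

end Tact

section Null

variable {k : Type u} [Field k] [IsAlgClosed k] {A : Type v} [CommRing A] [Algebra k A]
  [Algebra.FiniteType k A]

/-- maximal ideals of a finitely generated algebra over an algebraically closed field are kernels
of points -/
theorem exists_point_of_maximal (m : Ideal A) [hm : m.IsMaximal] :
    ∃ χ : A →ₐ[k] k, RingHom.ker χ = m := by
  let _ : Field (A ⧸ m) := Ideal.Quotient.field m
  have hft : Algebra.FiniteType k (A ⧸ m) :=
    Algebra.FiniteType.of_surjective (Ideal.Quotient.mkₐ k m) (Ideal.Quotient.mkₐ_surjective k m)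
  have hfin : Module.Finite k (A ⧸ m) := finite_of_finite_type_of_isJacobsonRing k (A ⧸ m)
  have hint : Algebra.IsIntegral k (A ⧸ m) := Algebra.IsIntegral.of_finite k (A ⧸ m)
  have hbij : Function.Bijective (algebraMap k (A ⧸ m)) :=
    IsAlgClosed.algebraMap_bijective_of_isIntegral
  let e : k ≃ₐ[k] (A ⧸ m) := AlgEquiv.ofBijective (Algebra.ofId k (A ⧸ m)) hbij
  refine ⟨(e.symm : (A ⧸ m) →ₐ[k] k).comp (Ideal.Quotient.mkₐ k m), ?_⟩
  ext x
  rw [RingHom.mem_ker]
  show e.symm (Ideal.Quotient.mk m x) = 0 ↔ x ∈ m
  rw [EmbeddingLike.map_eq_zero_iff, Ideal.Quotient.eq_zero_iff_mem]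

/-- Nullstellensatz: in a reduced finitely generated algebra over an algebraically closed field,
a function vanishing at all points is zero -/
theorem eq_zero_of_forall_point [IsReduced A] (f : A) (h : ∀ g : A →ₐ[k] k, g f = 0) : f = 0 := by
  have hJ : IsJacobsonRing A := isJacobsonRing_of_finiteType (A := k) (B := A)
  have hrad : (⊥ : Ideal A).IsRadical := by
    intro x hx
    obtain ⟨n, hn⟩ := hx
    exact IsReduced.eq_zero x ⟨n, hn⟩
  have hjac := hJ.out hrad
  have hmem : f ∈ Ideal.jacobson (⊥ : Ideal A) := by
    rw [Ideal.jacobson, Ideal.mem_sInf]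
    rintro m ⟨-, hm⟩
    obtain ⟨χ, hχ⟩ := exists_point_of_maximal (k := k) m
    rw [← hχ, RingHom.mem_ker]
    exact h χ
  rw [hjac] at hmem
  exact hmem

end Null

section Converse

variable {k : Type u} [Field k] {A : Type v} [CommRing A] [Bialgebra k A]

/-- the two-dimensional subcomodule spanned by `1` and a primitive element -/
lemma isSubcomod_span_one_primitive (f : A)
    (hf : CoalgebraStruct.comul (R := k) f = f ⊗ₜ[k] (1 : A) + (1 : A) ⊗ₜ[k] f) :
    HopfRep.IsSubcomod (k := k) (A := A) (V := A) (Submodule.span k {1, f}) := by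
  intro w hw
  induction hw using Submodule.span_induction with
  | mem x hx =>
    rcases hx with rfl | rfl
    · refine ⟨(⟨1, Submodule.subset_span (by simp)⟩ : Submodule.span k {(1 : A), f}) ⊗ₜ[k] 1, ?_⟩
      rw [LinearMap.rTensor_tmul]
      show (1 : A) ⊗ₜ[k] (1 : A) = CoalgebraStruct.comul (R := k) (1 : A)
      rw [Bialgebra.comul_one, Algebra.TensorProduct.one_def]
    · refine ⟨(⟨x, Submodule.subset_span (by simp)⟩ : Submodule.span k {(1 : A), x}) ⊗ₜ[k] 1 +
        (⟨1, Submodule.subset_span (by simp)⟩ : Submodule.span k {(1 : A), x}) ⊗ₜ[k] x, ?_⟩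
      rw [map_add, LinearMap.rTensor_tmul, LinearMap.rTensor_tmul]
      exact hf.symm
  | zero => exact ⟨0, by rw [map_zero, map_zero]⟩
  | add x y _ _ hx hy =>
    obtain ⟨x', hx'⟩ := hx
    obtain ⟨y', hy'⟩ := hy
    exact ⟨x' + y', by rw [map_add, hx', hy', map_add]⟩
  | smul c x _ hx =>
    obtain ⟨x', hx'⟩ := hx
    exact ⟨c • x', by rw [map_smul, hx', map_smul]⟩

/-- if every point acts semisimply on the span of `1` and a primitive `f`, then `f` vanishes at
every point -/
theorem apply_primitive_eq_zero (f : A)
    (hf : CoalgebraStruct.comul (R := k) f = f ⊗ₜ[k] (1 : A) + (1 : A) ⊗ₜ[k] f)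
    (g : A →ₐ[k] k)
    (hss : ∀ (V : Type v) [AddCommGroup V] [Module k V] [HopfRep.Comod k A V], Module.Finite k V →
        Module.End.IsSemisimple (HopfRep.Comod.act k A V g)) : g f = 0 := by
  by_cases hA : Subsingleton A
  · have : f = 0 := Subsingleton.elim _ _
    rw [this, map_zero]
  rw [not_subsingleton_iff_nontrivial] at hA
  set W : Submodule k A := Submodule.span k {1, f} with hW
  have hsub := isSubcomod_span_one_primitive f hf
  let cW : HopfRep.Comod k A W := ComodSub.Comod.restr (inferInstance : HopfRep.Comod k A A) W hsub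
  have hfinW : Module.Finite k W := Module.Finite.span_of_finite k (by simp)
  have h1 := hss W hfinW
  set T := HopfRep.Comod.act k A W g with hT
  -- compute T on the generators
  have hTval : ∀ w : W, ((T w : W) : A) =
      Comod.slice g.toLinearMap (CoalgebraStruct.comul (R := k) (w : A)) := by
    intro w
    have h2 := ComodSub.restr_coact_coe (inferInstance : HopfRep.Comod k A A) W hsub w
    show W.subtype (Comod.slice g.toLinearMap (cW.coact w)) = _
    rw [← Comod.slice_rTensor, h2]
    rfl
  let w1 : W := ⟨1, Submodule.subset_span (by simp)⟩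
  let wf : W := ⟨f, Submodule.subset_span (by simp)⟩
  have hT1 : T w1 = w1 := by
    apply Subtype.ext
    rw [hTval]
    show Comod.slice g.toLinearMap (CoalgebraStruct.comul (R := k) (1 : A)) = 1
    rw [Bialgebra.comul_one, Algebra.TensorProduct.one_def, Comod.slice_tmul]
    show g 1 • (1 : A) = 1
    rw [map_one, one_smul]
  have hTf : T wf = wf + g f • w1 := by
    apply Subtype.ext
    rw [hTval]
    show Comod.slice g.toLinearMap (CoalgebraStruct.comul (R := k) f) = f + g f • (1 : A)
    rw [hf, map_add, Comod.slice_tmul, Comod.slice_tmul]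
    show g 1 • f + g f • (1 : A) = _
    rw [map_one, one_smul]
  -- N = T - 1 is nilpotent and semisimple
  set N : Module.End k W := T - algebraMap k (Module.End k W) 1 with hN
  have hNss : N.IsSemisimple := Module.End.isSemisimple_sub_algebraMap_iff.mpr h1
  have hN1 : N w1 = 0 := by
    rw [hN, LinearMap.sub_apply, hT1, map_one, Module.End.one_apply, sub_self]
  have hNf : N wf = g f • w1 := by
    rw [hN, LinearMap.sub_apply, hTf, map_one, Module.End.one_apply, add_sub_cancel_left]
  have hNN : N * N = 0 := by
    apply LinearMap.ext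
    rintro ⟨w, hw⟩
    rw [LinearMap.zero_apply]
    induction hw using Submodule.span_induction with
    | mem x hx =>
      rcases hx with rfl | rfl
      · show N (N w1) = 0
        rw [hN1, map_zero]
      · show N (N wf) = 0
        rw [hNf, map_smul, hN1, smul_zero]
    | zero => exact map_zero _
    | add x y hx hy ihx ihy =>
      have : (⟨x + y, Submodule.add_mem _ hx hy⟩ : W) = ⟨x, hx⟩ + ⟨y, hy⟩ := rfl
      rw [this, map_add, ihx, ihy, add_zero]
    | smul c x hx ihx =>
      have : (⟨c • x, Submodule.smul_mem _ c hx⟩ : W) = c • ⟨x, hx⟩ := rfl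
      rw [this, map_smul, ihx, smul_zero]
  have hNnil : IsNilpotent N := ⟨2, by rw [pow_two, hNN]⟩
  have hN0 := Module.End.eq_zero_of_isNilpotent_isSemisimple hNnil hNss
  rw [hN0, LinearMap.zero_apply] at hNf
  have h3 : g f • (1 : A) = 0 := by
    have := congrArg (Subtype.val) hNf
    exact this.symm
  rcases smul_eq_zero.mp h3 with h | h
  · exact h
  · exact absurd h one_ne_zero

end Converse

end Groth.Agent.H9.CocommDiag
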