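import Mathlib
import Groth.Agent.Lib.Helper9.CocommDiag.Main
import Groth.Agent.Lib.Helper9.UnipFil.MultType

/-!
# Multiplicative type = commutative with no homomorphisms to `G_a` (helper9)
-/

set_option autoImplicit false

universe u v w

open TensorProduct WithConv

namespace Groth.Agent.H9.CocommDiag

open Groth.Agent.H9 Groth.Agent.H9.Comod Groth.Agent.H9.UnipFil

section Diag

variable {K : Type u} [Field K] {M : Type v} [CommRing M] [Bialgebra K M]

/-- a diagonalizable bialgebra is cocommutative -/
theorem isCocomm_of_isDiagonalizable (hM : HopfRep.IsDiagonalizable K M) :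
    Coalgebra.IsCocomm K M := by
  constructor
  apply LinearMap.ext_on (s := {a : M | IsGroupLikeElem K a})
  · exact hM
  · intro g hg
    have hg' : IsGroupLikeElem K g := hg
    rw [LinearMap.comp_apply, hg'.comul_eq_tmul_self]
    rfl

/-- a diagonalizable bialgebra has no nonzero primitive element -/
theorem no_primitive_of_isDiagonalizable (hM : HopfRep.IsDiagonalizable K M) (x : M)
    (hx : CoalgebraStruct.comul (R := K) x = x ⊗ₜ[K] (1 : M) + (1 : M) ⊗ₜ[K] x) : x = 0 := by
  have key : ∀ p : WithConv (M →ₗ[K] K), (p * p).ofConv x =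
      p.ofConv x * p.ofConv 1 + p.ofConv 1 * p.ofConv x := by
    intro p
    show (p * p) x = _
    rw [LinearMap.convMul_apply, hx, map_add, map_add, TensorProduct.map_tmul,
      TensorProduct.map_tmul, LinearMap.mul'_apply, LinearMap.mul'_apply]
  have h1 := eq_smul_one_of_coord hM x (by
    intro p hp1 hp
    have h2 := key (toConv p)
    rw [coord_idem hM p hp, ofConv_toConv, hp1, mul_zero, zero_mul, add_zero] at h2
    exact h2)
  have h3 := key (1 : WithConv (M →ₗ[K] K))
  rw [one_mul] at h3
  have h4 : ∀ y : M, (1 : WithConv (M →ₗ[K] K)).ofConv y = CoalgebraStruct.counit (R := K) y :=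
    fun y => rfl
  rw [h4, h4, Bialgebra.counit_one, mul_one, one_mul] at h3
  have h5 : CoalgebraStruct.counit (R := K) x = 0 := by
    have : CoalgebraStruct.counit (R := K) x + 0 =
        CoalgebraStruct.counit (R := K) x + CoalgebraStruct.counit (R := K) x := by
      rw [add_zero]; exact h3
    exact (add_left_cancel this).symm
  rw [h1, h5, zero_smul]

end Diag

section BC

variable {k : Type u} [Field k] (K : Type w) [Field K] [Algebra k K]
  {A : Type v} [CommRing A] [Bialgebra k A]

/-- comultiplication of the base change -/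
lemma comul_baseChange (x : K ⊗[k] A) :
    CoalgebraStruct.comul (R := K) x =
      TensorProduct.AlgebraTensorModule.distribBaseChange k K A A
        ((CoalgebraStruct.comul (R := k) (A := A)).lTensor K x) := by
  induction x using TensorProduct.induction_on with
  | zero => simp
  | tmul c a =>
    rw [TensorProduct.comul_tmul, LinearMap.lTensor_tmul,
      ← (Coalgebra.Repr.arbitrary k a).eq, CommSemiring.comul_apply,
      TensorProduct.tmul_sum, TensorProduct.tmul_sum, map_sum, map_sum]
    refine Finset.sum_congr rfl fun l _ => ?_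
    rw [TensorProduct.AlgebraTensorModule.tensorTensorTensorComm_tmul,
      TensorProduct.AlgebraTensorModule.distribBaseChange_tmul]
    show ((1 : K) ⊗ₜ[k] _) ⊗ₜ[K] (c ⊗ₜ[k] _) = (c ⊗ₜ[k] _) ⊗ₜ[K] ((1 : K) ⊗ₜ[k] _)
    have h1 : ∀ a' : A, c ⊗ₜ[k] a' = c • ((1 : K) ⊗ₜ[k] a') := fun a' => by
      rw [TensorProduct.smul_tmul', smul_eq_mul, mul_one]
    rw [h1, h1, TensorProduct.smul_tmul]
  | add x y hx hy => simp only [map_add, hx, hy]

/-- the map whose kernel is the space of primitive elements -/
noncomputable def primMap (k : Type u) [Field k] (A : Type v) [CommRing A] [Bialgebra k A] :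
    A →ₗ[k] A ⊗[k] A :=
  CoalgebraStruct.comul (R := k) (A := A) - (TensorProduct.mk k A A).flip 1 -
    TensorProduct.mk k A A 1

lemma primMap_apply (a : A) :
    primMap k A a = CoalgebraStruct.comul (R := k) a - a ⊗ₜ[k] (1 : A) - (1 : A) ⊗ₜ[k] a := rfl

lemma distrib_primMap (x : K ⊗[k] A) :
    TensorProduct.AlgebraTensorModule.distribBaseChange k K A A ((primMap k A).lTensor K x) =
      CoalgebraStruct.comul (R := K) x - x ⊗ₜ[K] (1 : K ⊗[k] A) - (1 : K ⊗[k] A) ⊗ₜ[K] x := by
  rw [comul_baseChange]
  induction x using TensorProduct.induction_on with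
  | zero => simp
  | tmul c a =>
    rw [LinearMap.lTensor_tmul, LinearMap.lTensor_tmul, primMap_apply, TensorProduct.tmul_sub,
      TensorProduct.tmul_sub, map_sub, map_sub,
      TensorProduct.AlgebraTensorModule.distribBaseChange_tmul,
      TensorProduct.AlgebraTensorModule.distribBaseChange_tmul]
    congr 1
    rw [Algebra.TensorProduct.one_def]
    have h1 : ∀ a' : A, c ⊗ₜ[k] a' = c • ((1 : K) ⊗ₜ[k] a') := fun a' => by
      rw [TensorProduct.smul_tmul', smul_eq_mul, mul_one]
    rw [h1 1, h1 a, TensorProduct.smul_tmul]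
  | add x y hx hy =>
    simp only [map_add, hx, hy, TensorProduct.add_tmul, TensorProduct.tmul_add]
    abel

/-- absence of primitive elements is preserved by base field extension -/
theorem no_primitive_baseChange
    (h : ∀ f : A, CoalgebraStruct.comul (R := k) f = f ⊗ₜ[k] (1 : A) + (1 : A) ⊗ₜ[k] f → f = 0)
    (x : K ⊗[k] A)
    (hx : CoalgebraStruct.comul (R := K) x =
      x ⊗ₜ[K] (1 : K ⊗[k] A) + (1 : K ⊗[k] A) ⊗ₜ[K] x) : x = 0 := by
  have hinj : Function.Injective (primMap k A) := by
    rw [← LinearMap.ker_eq_bot, LinearMap.ker_eq_bot']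
    intro a ha
    apply h
    rw [primMap_apply, sub_sub, sub_eq_zero] at ha
    exact ha
  have hinj' : Function.Injective ((primMap k A).lTensor K) :=
    Module.Flat.lTensor_preserves_injective_linearMap _ hinj
  apply hinj'
  rw [map_zero]
  apply (TensorProduct.AlgebraTensorModule.distribBaseChange k K A A).injective
  rw [distrib_primMap, map_zero, hx]
  abel

/-- primitive elements of `A` give primitive elements of `K ⊗ A` -/
lemma primitive_one_tmul (f : A)
    (hf : CoalgebraStruct.comul (R := k) f = f ⊗ₜ[k] (1 : A) + (1 : A) ⊗ₜ[k] f) :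
    CoalgebraStruct.comul (R := K) ((1 : K) ⊗ₜ[k] f) =
      ((1 : K) ⊗ₜ[k] f) ⊗ₜ[K] (1 : K ⊗[k] A) + (1 : K ⊗[k] A) ⊗ₜ[K] ((1 : K) ⊗ₜ[k] f) := by
  have h1 := distrib_primMap K ((1 : K) ⊗ₜ[k] f)
  rw [LinearMap.lTensor_tmul, primMap_apply, hf] at h1
  have h2 : f ⊗ₜ[k] (1 : A) + (1 : A) ⊗ₜ[k] f - f ⊗ₜ[k] (1 : A) - (1 : A) ⊗ₜ[k] f = 0 := by abel
  rw [h2, TensorProduct.tmul_zero, map_zero] at h1
  have h3 := sub_eq_zero.mp h1.symm
  rw [sub_eq_iff_eq_add] at h3
  rw [h3]
  abel

/-- cocommutativity descends along field extensions -/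
theorem isCocomm_of_baseChange (h : Coalgebra.IsCocomm K (K ⊗[k] A)) : Coalgebra.IsCocomm k A := by
  constructor
  apply LinearMap.ext
  intro a
  rw [LinearMap.comp_apply]
  apply includeRight_inj (k := k) K
  apply (TensorProduct.AlgebraTensorModule.distribBaseChange k K A A).injective
  have h1 := LinearMap.congr_fun h.comm_comp_comul ((1 : K) ⊗ₜ[k] a)
  rw [LinearMap.comp_apply, comul_baseChange, LinearMap.lTensor_tmul] at h1
  rw [← h1]
  show _ = (TensorProduct.comm K (K ⊗[k] A) (K ⊗[k] A)) _
  generalize CoalgebraStruct.comul (R := k) a = z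
  induction z using TensorProduct.induction_on with
  | zero => simp
  | tmul a b =>
    rw [LinearEquiv.coe_coe, TensorProduct.comm_tmul,
      TensorProduct.AlgebraTensorModule.distribBaseChange_tmul,
      TensorProduct.AlgebraTensorModule.distribBaseChange_tmul, TensorProduct.comm_tmul]
  | add x y hx hy =>
    simp only [map_add, TensorProduct.tmul_add] at hx hy ⊢
    rw [hx, hy]

end BC

end Groth.Agent.H9.CocommDiag
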